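import Cfsg.Agent.Lib.KnownSimple.MultM.M24V.ValC0

/-!
# The relations between the relators
-/

set_option autoImplicit false

namespace Cfsg.Agent.Lib.KnownSimple.MultM.M24V

open Cfsg Cfsg.Spor Cfsg.Agent.Lib.Compute Cfsg.Agent.Lib.KnownSimple.PE Cfsg.Agent.Lib.KnownSimple.Leech
open Cfsg.Agent.Lib.KnownSimple Cfsg.Agent.Lib.KnownSimple.AutRigid Cfsg.Agent.Lib.KnownSimple.Pres
open Cfsg.Agent.Lib.KnownSimple.MultC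
open Cfsg.Agent.Lib.Golay Cfsg.Agent.Lib.KnownSimple.CodeCalc Cfsg.Agent.Lib.KnownSimple.MathieuData Cfsg.Agent.Lib.KnownSimple.MathieuFacts
open Cfsg.Agent.Lib.KnownSimple.MathieuGen Cfsg.Agent.Lib.KnownSimple.MathieuOut Cfsg.Agent.Lib.KnownSimple.MultM

theorem hEF : ∀ e, e < n * d → chkEdgeG 4294967296 mskM cKK C.τ d n RL 47 7 41 (lookP parT) (lookP genT) (lg 0 peL) tv e = true := by
  have h : allBelow fe 144 = true :=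
    allBelow_of_pad (m := 1) (s := 1024) (by norm_num) (fun c hc => by
    interval_cases c
    · exact ve0
  )
  intro e he
  exact (allBelow_iff _ _).1 h e he
set_option maxHeartbeats 0 in
set_option maxRecDepth 100000 in
theorem hLn : allBelow (fun q => Nat.blt (((lg [] RL q).length + 1) * 65536) 4294967296) 47 = true := by decide +kernel
theorem hE : ∀ e, e < n * d → chkEdge C.τ d n RL 47 7 41 (lookP parT) (lookP genT) (lg 0 peL) (toV 4294967296 48 tv) e = true :=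
  chkEdge_of_G (by norm_num) (good_of_mask (W := 32) (b := 16) (by norm_num) (by norm_num) (by norm_num) (by decide +kernel) (by decide +kernel))
    (fun l i hl hi => C.hlt l i hl hi) (fun q _ => words_lg hokR q) (len_of_chk hLn) hEF
set_option maxRecDepth 100000 in
/-- The relations. -/
def rowsF : List (ℕ × ℕ × List ℤ) := [(0,7,[.ofNat 0,.ofNat 0,.ofNat 1,.ofNat 0,.ofNat 0,.negSucc 0,.ofNat 0,.ofNat 2,.ofNat 0,.ofNat 1,.negSucc 1,.ofNat 0,.ofNat 0,.ofNat 0,.ofNat 0,.ofNat 0,.ofNat 0,.ofNat 0,.ofNat 0,.ofNat 0,.ofNat 0,.ofNat 0,.ofNat 1]),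
  (0,9,[.ofNat 0,.ofNat 0,.ofNat 0,.ofNat 0,.ofNat 0,.ofNat 0,.ofNat 0,.ofNat 2,.negSucc 0,.ofNat 0,.ofNat 0,.ofNat 3,.ofNat 0,.ofNat 1]),
  (0,13,[.ofNat 0,.ofNat 0,.ofNat 0,.ofNat 0,.ofNat 0,.ofNat 0,.ofNat 0,.negSucc 0,.ofNat 2,.ofNat 0,.ofNat 0,.ofNat 3,.ofNat 0,.ofNat 1]),
  (0,17,[.ofNat 0,.ofNat 0,.ofNat 0,.ofNat 0,.ofNat 0,.ofNat 1,.ofNat 0,.ofNat 0,.ofNat 0,.ofNat 2,.ofNat 0,.ofNat 0,.ofNat 2]),
  (0,21,[.negSucc 3,.ofNat 0,.negSucc 1,.ofNat 0,.ofNat 0,.negSucc 4,.ofNat 0,.negSucc 2,.ofNat 2,.negSucc 1,.negSucc 6,.ofNat 0,.ofNat 0,.ofNat 3,.ofNat 0,.ofNat 3,.ofNat 0,.ofNat 0,.ofNat 0,.negSucc 2,.ofNat 0,.ofNat 0,.ofNat 5,.ofNat 0,.ofNat 0,.ofNat 0,.ofNat 0,.ofNat 0,.ofNat 0,.ofNat 0,.ofNat 0,.ofNat 0,.ofNat 0,.ofNat 3,.negSucc 2]),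
  (0,22,[.negSucc 5,.ofNat 0,.negSucc 1,.ofNat 0,.ofNat 0,.negSucc 6,.ofNat 0,.negSucc 4,.ofNat 4,.negSucc 1,.negSucc 8,.ofNat 0,.ofNat 0,.ofNat 3,.ofNat 0,.ofNat 5,.ofNat 0,.ofNat 0,.negSucc 0,.negSucc 4,.ofNat 0,.ofNat 0,.ofNat 7,.ofNat 0,.ofNat 0,.ofNat 0,.ofNat 0,.ofNat 0,.ofNat 0,.ofNat 0,.ofNat 0,.ofNat 0,.ofNat 0,.ofNat 5,.negSucc 4]),
  (0,24,[.negSucc 2,.ofNat 0,.negSucc 0,.ofNat 0,.ofNat 0,.negSucc 2,.ofNat 0,.negSucc 1,.negSucc 1,.negSucc 0,.negSucc 2,.ofNat 0,.ofNat 0,.ofNat 3,.ofNat 0,.ofNat 3,.ofNat 0,.ofNat 0,.ofNat 1,.negSucc 2,.ofNat 0,.ofNat 0,.ofNat 3,.ofNat 0,.ofNat 0,.ofNat 0,.ofNat 0,.ofNat 0,.ofNat 0,.ofNat 0,.ofNat 0,.ofNat 0,.ofNat 0,.ofNat 3,.negSucc 2]),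
  (0,26,[.negSucc 0,.negSucc 1,.negSucc 0,.ofNat 0,.ofNat 0,.ofNat 1,.ofNat 0,.ofNat 0,.negSucc 2,.negSucc 0,.negSucc 1,.ofNat 0,.ofNat 0,.ofNat 0,.ofNat 0,.ofNat 1,.ofNat 0,.ofNat 0,.ofNat 1,.ofNat 2]),
  (0,42,[.ofNat 0,.ofNat 0,.ofNat 0,.ofNat 0,.ofNat 0,.ofNat 0,.ofNat 0,.ofNat 1,.ofNat 0,.ofNat 0,.ofNat 0,.ofNat 0,.ofNat 0,.negSucc 0]),
  (1,6,[.ofNat 2,.ofNat 0,.ofNat 0,.ofNat 0,.ofNat 0,.ofNat 0,.ofNat 0,.ofNat 2]),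
  (1,19,[.ofNat 1,.ofNat 1,.ofNat 0,.ofNat 0,.ofNat 0,.ofNat 1,.ofNat 0,.ofNat 2,.negSucc 2,.negSucc 0,.ofNat 2,.ofNat 0,.ofNat 3,.negSucc 0,.ofNat 0,.negSucc 0,.ofNat 0,.ofNat 0,.ofNat 1,.ofNat 2,.ofNat 0,.ofNat 0,.negSucc 0,.ofNat 0,.ofNat 0,.ofNat 0,.ofNat 0,.ofNat 0,.ofNat 0,.ofNat 0,.ofNat 0,.ofNat 0,.ofNat 0,.negSucc 0,.ofNat 1]),
  (1,28,[.negSucc 1,.ofNat 2,.ofNat 0,.ofNat 0,.ofNat 0,.negSucc 1,.ofNat 0,.negSucc 2,.ofNat 5,.ofNat 2,.negSucc 1,.ofNat 3,.ofNat 0,.ofNat 2,.ofNat 0,.ofNat 2,.ofNat 0,.ofNat 0,.negSucc 1,.negSucc 1,.ofNat 0,.ofNat 0,.ofNat 2,.ofNat 0,.ofNat 0,.ofNat 0,.ofNat 0,.ofNat 0,.ofNat 0,.ofNat 0,.ofNat 0,.ofNat 0,.ofNat 0,.ofNat 2,.negSucc 1]),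
  (1,44,[.ofNat 0,.negSucc 0]),
  (2,5,[]),
  (2,23,[.negSucc 1,.ofNat 0,.ofNat 0,.ofNat 0,.ofNat 0,.negSucc 1,.ofNat 0,.ofNat 0,.negSucc 1,.negSucc 1,.negSucc 1,.ofNat 0,.ofNat 0,.ofNat 1,.ofNat 0,.ofNat 2,.ofNat 0,.ofNat 0,.ofNat 2,.negSucc 1,.ofNat 0,.ofNat 0,.ofNat 2,.ofNat 0,.ofNat 0,.ofNat 0,.ofNat 0,.ofNat 0,.ofNat 0,.ofNat 0,.ofNat 0,.ofNat 0,.ofNat 0,.ofNat 2,.negSucc 1]),
  (2,24,[.negSucc 1,.ofNat 0,.negSucc 0,.ofNat 0,.ofNat 0,.negSucc 2,.ofNat 0,.ofNat 0,.negSucc 0,.negSucc 0,.negSucc 3,.ofNat 0,.ofNat 0,.ofNat 2,.ofNat 0,.ofNat 2,.ofNat 0,.ofNat 0,.ofNat 1,.negSucc 1,.ofNat 0,.ofNat 0,.ofNat 3,.ofNat 0,.ofNat 0,.ofNat 0,.ofNat 0,.ofNat 0,.ofNat 0,.ofNat 0,.ofNat 0,.ofNat 0,.ofNat 0,.ofNat 2,.negSucc 1]),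
  (2,25,[.ofNat 1,.ofNat 0,.negSucc 0,.ofNat 0,.ofNat 0,.ofNat 1,.ofNat 0,.ofNat 6,.negSucc 15,.negSucc 8,.negSucc 3,.ofNat 0,.ofNat 0,.negSucc 2,.ofNat 0,.negSucc 0,.ofNat 0,.ofNat 0,.ofNat 5,.ofNat 6,.ofNat 0,.ofNat 0,.negSucc 0,.ofNat 0,.ofNat 0,.ofNat 0,.ofNat 0,.ofNat 0,.ofNat 0,.ofNat 0,.ofNat 0,.ofNat 0,.ofNat 0,.negSucc 0,.ofNat 1]),
  (2,31,[.ofNat 2,.ofNat 0,.ofNat 2,.ofNat 0,.ofNat 0,.ofNat 0,.ofNat 0,.ofNat 0,.ofNat 0,.ofNat 0,.negSucc 0,.negSucc 0,.ofNat 0,.negSucc 0,.ofNat 0,.ofNat 0,.ofNat 0,.ofNat 0,.ofNat 0,.negSucc 0,.ofNat 0,.ofNat 0,.ofNat 0,.ofNat 0,.ofNat 0,.ofNat 1,.ofNat 0,.ofNat 0,.ofNat 0,.ofNat 0,.ofNat 0,.ofNat 0,.ofNat 0,.ofNat 0,.ofNat 0,.ofNat 0,.ofNat 1]),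
  (2,45,[.ofNat 0,.ofNat 1,.ofNat 3,.ofNat 0,.ofNat 1,.ofNat 0,.ofNat 0,.ofNat 0,.ofNat 0,.ofNat 0,.ofNat 1,.negSucc 0,.ofNat 0,.ofNat 0,.ofNat 0,.negSucc 0]),
  (3,1,[.ofNat 0,.negSucc 1,.ofNat 0,.ofNat 0,.ofNat 0,.ofNat 0,.ofNat 0,.ofNat 0,.negSucc 1,.ofNat 0,.negSucc 1,.ofNat 0,.ofNat 0,.ofNat 0,.ofNat 0,.ofNat 0,.ofNat 0,.ofNat 0,.ofNat 0,.ofNat 2]),
  (3,32,[.ofNat 0,.negSucc 1,.negSucc 0,.ofNat 0,.ofNat 1,.ofNat 3,.ofNat 0,.ofNat 0,.negSucc 4,.negSucc 1,.negSucc 3,.ofNat 1,.ofNat 0,.ofNat 0,.ofNat 0,.ofNat 1,.ofNat 0,.ofNat 0,.ofNat 0,.ofNat 3,.ofNat 0,.ofNat 0,.ofNat 0,.ofNat 0,.ofNat 0,.ofNat 1,.ofNat 0,.ofNat 0,.ofNat 0,.ofNat 0,.ofNat 0,.ofNat 0,.ofNat 0,.ofNat 1,.ofNat 0,.ofNat 0,.negSucc 0,.ofNat 0,.ofNat 0,.ofNat 1,.negSucc 0,.ofNat 0,.ofNat 0,.ofNat 0,.ofNat 1,.ofNat 0,.negSucc 0]),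
  (3,42,[.ofNat 0,.ofNat 1,.ofNat 0,.ofNat 0,.ofNat 0,.ofNat 0,.ofNat 0,.ofNat 0,.ofNat 1,.ofNat 0,.ofNat 1,.ofNat 0,.ofNat 0,.ofNat 0,.ofNat 0,.ofNat 0,.ofNat 0,.ofNat 0,.ofNat 0,.negSucc 0]),
  (3,44,[.ofNat 3,.ofNat 0,.negSucc 0,.ofNat 0,.ofNat 0,.ofNat 2,.ofNat 0,.ofNat 5,.negSucc 4,.negSucc 1,.ofNat 0,.ofNat 0,.ofNat 0,.negSucc 1,.ofNat 0,.negSucc 1,.ofNat 0,.ofNat 0,.ofNat 2,.ofNat 3,.ofNat 0,.ofNat 0,.negSucc 1,.ofNat 0,.ofNat 0,.ofNat 0,.ofNat 0,.ofNat 0,.ofNat 0,.ofNat 0,.ofNat 0,.ofNat 0,.ofNat 0,.negSucc 1,.ofNat 2]),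
  (4,24,[.ofNat 0,.negSucc 0,.ofNat 2,.ofNat 1,.ofNat 0,.ofNat 2,.ofNat 0,.ofNat 2,.negSucc 0,.ofNat 1,.negSucc 0,.ofNat 0,.ofNat 0,.ofNat 0,.ofNat 0,.negSucc 0,.ofNat 0,.ofNat 0,.ofNat 1,.ofNat 2,.ofNat 0,.ofNat 0,.negSucc 0,.ofNat 0,.ofNat 0,.ofNat 0,.ofNat 0,.ofNat 0,.ofNat 0,.ofNat 0,.ofNat 0,.ofNat 0,.ofNat 0,.ofNat 0,.ofNat 0,.ofNat 0,.negSucc 0,.ofNat 0,.ofNat 0,.ofNat 2,.ofNat 0,.ofNat 0,.ofNat 0,.ofNat 1,.negSucc 0]),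
  (5,16,[.negSucc 1,.ofNat 0,.ofNat 0,.ofNat 0,.ofNat 0,.negSucc 5,.ofNat 0,.ofNat 0,.ofNat 2,.negSucc 3,.negSucc 13,.ofNat 4,.ofNat 0,.ofNat 0,.ofNat 0,.ofNat 2,.ofNat 0,.ofNat 0,.ofNat 0,.negSucc 1,.ofNat 0,.ofNat 0,.ofNat 6,.ofNat 0,.ofNat 0,.ofNat 2,.ofNat 0,.ofNat 0,.ofNat 0,.ofNat 0,.ofNat 0,.ofNat 0,.ofNat 0,.ofNat 2,.negSucc 1,.ofNat 0,.ofNat 0,.negSucc 1]),
  (5,25,[.ofNat 0,.ofNat 0,.ofNat 0,.ofNat 0,.ofNat 0,.ofNat 0,.ofNat 0,.negSucc 0,.ofNat 0,.ofNat 0,.negSucc 0,.ofNat 0,.ofNat 0,.ofNat 1,.ofNat 0,.ofNat 1,.ofNat 0,.ofNat 0,.ofNat 0,.ofNat 0,.ofNat 0,.ofNat 0,.ofNat 1]),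
  (5,46,[.negSucc 1,.negSucc 1,.ofNat 8,.ofNat 0,.negSucc 0,.ofNat 3,.ofNat 0,.ofNat 2,.ofNat 2,.ofNat 0,.ofNat 8,.ofNat 1,.ofNat 0,.negSucc 2,.ofNat 0,.negSucc 3,.ofNat 0,.ofNat 0,.ofNat 4,.ofNat 1,.ofNat 0,.ofNat 0,.negSucc 2,.ofNat 0,.ofNat 0,.ofNat 0,.ofNat 0,.ofNat 0,.ofNat 0,.ofNat 0,.ofNat 0,.ofNat 0,.ofNat 0,.negSucc 2,.ofNat 1,.ofNat 0,.ofNat 0,.ofNat 0,.ofNat 0,.ofNat 1,.ofNat 1,.ofNat 0,.ofNat 0,.ofNat 2,.negSucc 4,.ofNat 1]),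
  (6,10,[.ofNat 0,.negSucc 1,.ofNat 0,.ofNat 0,.ofNat 0,.ofNat 0,.ofNat 0,.ofNat 0,.ofNat 0,.ofNat 0,.negSucc 1,.ofNat 0,.ofNat 4,.ofNat 0,.ofNat 0,.ofNat 2]),
  (6,35,[.negSucc 1,.ofNat 0,.ofNat 0,.ofNat 0,.ofNat 0,.negSucc 1,.ofNat 0,.negSucc 1,.ofNat 5,.ofNat 2,.negSucc 1,.ofNat 3,.ofNat 0,.ofNat 2,.ofNat 0,.ofNat 2,.ofNat 0,.ofNat 0,.negSucc 1,.negSucc 1,.ofNat 0,.ofNat 0,.ofNat 2,.ofNat 0,.ofNat 0,.ofNat 0,.ofNat 0,.ofNat 0,.ofNat 0,.ofNat 0,.ofNat 0,.ofNat 0,.ofNat 0,.ofNat 2,.negSucc 1]),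
  (8,24,[.ofNat 3,.ofNat 0,.ofNat 4,.ofNat 0,.ofNat 1,.ofNat 1,.ofNat 0,.ofNat 11,.negSucc 2,.ofNat 0,.negSucc 2,.ofNat 4,.negSucc 2,.negSucc 1,.ofNat 0,.negSucc 1,.negSucc 0,.ofNat 0,.ofNat 3,.ofNat 3,.ofNat 0,.ofNat 1,.ofNat 0,.ofNat 0,.ofNat 0,.ofNat 1,.ofNat 0,.ofNat 0,.ofNat 0,.ofNat 0,.ofNat 0,.ofNat 0,.ofNat 0,.negSucc 1,.ofNat 1,.ofNat 0,.negSucc 0,.negSucc 0,.ofNat 0,.ofNat 1,.ofNat 0,.ofNat 0,.ofNat 0,.ofNat 1,.negSucc 0]),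
  (8,37,[.ofNat 0,.negSucc 0,.ofNat 2,.ofNat 1,.ofNat 2,.ofNat 4,.ofNat 0,.ofNat 1,.negSucc 1,.ofNat 0,.ofNat 2,.negSucc 0,.ofNat 1,.ofNat 1,.ofNat 0,.ofNat 1,.ofNat 0,.ofNat 0,.ofNat 0,.ofNat 1,.ofNat 0,.ofNat 0,.negSucc 0,.ofNat 0,.ofNat 0,.ofNat 0,.ofNat 0,.ofNat 0,.ofNat 0,.ofNat 0,.ofNat 0,.ofNat 0,.ofNat 0,.ofNat 2,.negSucc 1,.ofNat 0,.negSucc 1,.ofNat 1,.ofNat 0,.ofNat 2,.negSucc 0]),
  (9,2,[.negSucc 1,.ofNat 0,.ofNat 0,.ofNat 0,.ofNat 0,.negSucc 1,.ofNat 0,.negSucc 1,.ofNat 0,.negSucc 1,.negSucc 1,.ofNat 0,.ofNat 0,.ofNat 0,.ofNat 0,.ofNat 2,.ofNat 0,.ofNat 0,.ofNat 0,.negSucc 1,.ofNat 0,.ofNat 0,.ofNat 2,.ofNat 0,.ofNat 0,.ofNat 0,.ofNat 0,.ofNat 0,.ofNat 0,.ofNat 0,.ofNat 0,.ofNat 0,.ofNat 0,.ofNat 2,.negSucc 1]),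
  (9,15,[.ofNat 0,.ofNat 0,.ofNat 0,.ofNat 0,.ofNat 0,.ofNat 0,.ofNat 0,.ofNat 4,.negSucc 11,.negSucc 7,.negSucc 3,.ofNat 0,.ofNat 0,.negSucc 3,.ofNat 0,.ofNat 0,.ofNat 0,.ofNat 0,.ofNat 4,.ofNat 4]),
  (9,29,[.negSucc 0,.ofNat 0,.ofNat 0,.ofNat 0,.ofNat 1,.negSucc 1,.ofNat 0,.ofNat 0,.ofNat 0,.negSucc 1,.negSucc 3,.ofNat 1,.ofNat 0,.ofNat 1,.ofNat 0,.ofNat 0,.ofNat 0,.ofNat 0,.ofNat 0,.ofNat 1,.ofNat 0,.ofNat 0,.ofNat 2]),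
  (9,43,[.ofNat 1,.ofNat 0,.ofNat 0,.ofNat 0,.ofNat 0,.ofNat 1,.ofNat 0,.ofNat 1,.ofNat 0,.ofNat 1,.ofNat 1,.ofNat 0,.ofNat 0,.ofNat 0,.ofNat 0,.negSucc 0,.ofNat 0,.ofNat 0,.ofNat 0,.ofNat 1,.ofNat 0,.ofNat 0,.negSucc 0,.ofNat 0,.ofNat 0,.ofNat 0,.ofNat 0,.ofNat 0,.ofNat 0,.ofNat 0,.ofNat 0,.ofNat 0,.ofNat 0,.negSucc 0,.ofNat 1]),
  (9,46,[.ofNat 0,.ofNat 1,.negSucc 0,.ofNat 0,.ofNat 0,.ofNat 0,.ofNat 0,.ofNat 1,.negSucc 0,.ofNat 0,.ofNat 1,.ofNat 0,.negSucc 1,.ofNat 1,.ofNat 0,.negSucc 0]),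
  (12,23,[.ofNat 0,.ofNat 0,.ofNat 0,.ofNat 0,.ofNat 0,.negSucc 3,.ofNat 0,.negSucc 1,.ofNat 3,.ofNat 0,.negSucc 4,.ofNat 0,.ofNat 0,.ofNat 1,.ofNat 1,.ofNat 0,.ofNat 0,.ofNat 0,.ofNat 0,.negSucc 0,.ofNat 0,.ofNat 0,.ofNat 2,.ofNat 0,.ofNat 0,.ofNat 0,.ofNat 0,.ofNat 0,.ofNat 0,.ofNat 0,.ofNat 0,.ofNat 0,.ofNat 0,.ofNat 0,.ofNat 0,.ofNat 0,.ofNat 1,.negSucc 0,.ofNat 0,.ofNat 0,.ofNat 1]),
  (15,3,[]),
  (15,4,[.ofNat 0,.ofNat 0,.ofNat 0,.ofNat 0,.ofNat 0,.negSucc 3,.ofNat 0,.ofNat 2,.ofNat 2,.negSucc 3,.negSucc 5,.ofNat 2,.negSucc 5,.ofNat 0,.ofNat 0,.ofNat 0,.ofNat 0,.ofNat 0,.ofNat 0,.ofNat 0,.ofNat 0,.ofNat 0,.ofNat 4,.ofNat 0,.ofNat 0,.ofNat 0,.ofNat 0,.ofNat 2,.ofNat 0,.ofNat 0,.ofNat 0,.ofNat 0,.ofNat 0,.ofNat 0,.ofNat 0,.ofNat 0,.ofNat 0,.negSucc 1]),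
  (15,18,[.ofNat 0,.ofNat 0,.ofNat 0,.ofNat 0,.ofNat 0,.negSucc 11,.ofNat 0,.ofNat 6,.ofNat 6,.negSucc 11,.negSucc 17,.ofNat 6,.negSucc 17,.ofNat 0,.ofNat 0,.ofNat 0,.ofNat 0,.ofNat 0,.ofNat 0,.ofNat 0,.ofNat 0,.ofNat 0,.ofNat 12,.ofNat 0,.ofNat 0,.ofNat 0,.ofNat 0,.ofNat 6,.ofNat 0,.ofNat 0,.ofNat 0,.ofNat 0,.ofNat 0,.ofNat 0,.ofNat 0,.ofNat 0,.ofNat 0,.negSucc 5]),
  (15,45,[.ofNat 0,.ofNat 0,.ofNat 0,.ofNat 0,.ofNat 0,.ofNat 2,.ofNat 0,.negSucc 0,.negSucc 0,.ofNat 2,.ofNat 3,.negSucc 0,.ofNat 3,.ofNat 0,.ofNat 0,.ofNat 0,.ofNat 0,.ofNat 0,.ofNat 0,.ofNat 0,.ofNat 0,.ofNat 0,.negSucc 1,.ofNat 0,.ofNat 0,.ofNat 0,.ofNat 0,.negSucc 0,.ofNat 0,.ofNat 0,.ofNat 0,.ofNat 0,.ofNat 0,.ofNat 0,.ofNat 0,.ofNat 0,.ofNat 0,.ofNat 1]),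
  (18,34,[.ofNat 5,.ofNat 0,.ofNat 5,.ofNat 0,.negSucc 0,.ofNat 11,.ofNat 0,.negSucc 4,.negSucc 8,.ofNat 6,.ofNat 23,.negSucc 4,.ofNat 1,.ofNat 2,.ofNat 0,.negSucc 2,.ofNat 3,.ofNat 0,.ofNat 3,.ofNat 5,.ofNat 0,.ofNat 0,.negSucc 8,.ofNat 0,.ofNat 0,.negSucc 2,.ofNat 0,.ofNat 0,.ofNat 0,.ofNat 0,.ofNat 0,.ofNat 0,.ofNat 0,.negSucc 2,.ofNat 1,.ofNat 0,.negSucc 1,.ofNat 3,.ofNat 0,.ofNat 2,.ofNat 0,.ofNat 0,.ofNat 0,.ofNat 1,.negSucc 1]),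
  (18,40,[.ofNat 2,.ofNat 0,.negSucc 0,.ofNat 0,.negSucc 0,.ofNat 2,.ofNat 0,.negSucc 3,.negSucc 2,.ofNat 2,.ofNat 7,.negSucc 2,.ofNat 1,.ofNat 1,.ofNat 0,.ofNat 0,.ofNat 1,.ofNat 0,.ofNat 0,.negSucc 0,.ofNat 0,.ofNat 0,.negSucc 1,.ofNat 0,.ofNat 0,.negSucc 0,.ofNat 0,.ofNat 0,.ofNat 0,.ofNat 0,.ofNat 0,.ofNat 0,.ofNat 0,.ofNat 0,.ofNat 0,.ofNat 0,.ofNat 1,.ofNat 1]),
  (19,25,[.negSucc 0,.negSucc 0,.negSucc 0,.ofNat 1,.ofNat 0,.ofNat 3,.ofNat 0,.ofNat 0,.negSucc 1,.ofNat 0,.ofNat 5,.negSucc 1,.negSucc 0,.ofNat 1,.ofNat 0,.ofNat 0,.ofNat 0,.ofNat 0,.negSucc 0,.ofNat 0,.ofNat 0,.ofNat 0,.negSucc 0,.ofNat 0,.ofNat 0,.ofNat 0,.ofNat 0,.ofNat 0,.ofNat 0,.ofNat 0,.ofNat 0,.ofNat 0,.ofNat 0,.ofNat 2,.negSucc 0,.ofNat 0,.negSucc 0,.ofNat 1,.ofNat 0,.ofNat 1,.negSucc 0,.ofNat 0,.ofNat 0,.ofNat 0,.ofNat 1]),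
  (23,23,[.ofNat 2,.negSucc 0,.ofNat 4,.ofNat 1,.ofNat 2,.ofNat 2,.ofNat 0,.ofNat 12,.ofNat 0,.negSucc 3,.negSucc 7,.ofNat 5,.negSucc 0,.negSucc 1,.ofNat 0,.negSucc 0,.negSucc 1,.ofNat 0,.ofNat 2,.ofNat 3,.ofNat 0,.ofNat 0,.ofNat 1,.ofNat 0,.ofNat 0,.ofNat 2,.ofNat 0,.ofNat 0,.ofNat 0,.ofNat 0,.ofNat 0,.ofNat 0,.ofNat 0,.ofNat 0,.ofNat 0,.ofNat 0,.negSucc 1,.negSucc 0,.ofNat 0,.ofNat 2,.negSucc 0,.ofNat 0,.ofNat 0,.ofNat 1]),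
  (23,41,[.ofNat 1,.ofNat 0,.ofNat 1,.ofNat 0,.ofNat 1,.negSucc 0,.ofNat 0,.ofNat 5,.ofNat 0,.negSucc 2,.negSucc 4,.ofNat 3,.ofNat 0,.negSucc 0,.ofNat 0,.negSucc 0,.negSucc 0,.ofNat 0,.ofNat 1,.ofNat 1,.ofNat 0,.ofNat 0,.ofNat 1,.ofNat 0,.ofNat 0,.ofNat 1,.ofNat 0,.ofNat 0,.ofNat 0,.ofNat 0,.ofNat 0,.ofNat 0,.ofNat 0,.negSucc 0,.ofNat 1,.ofNat 0,.ofNat 0,.negSucc 0]),
  (23,42,[.ofNat 0,.ofNat 0,.ofNat 0,.ofNat 0,.negSucc 0,.ofNat 2,.ofNat 0,.negSucc 3,.negSucc 1,.ofNat 2,.ofNat 6,.negSucc 2,.ofNat 0,.ofNat 0,.ofNat 0,.ofNat 0,.ofNat 1,.ofNat 0,.ofNat 0,.ofNat 0,.ofNat 0,.ofNat 0,.negSucc 1,.ofNat 0,.ofNat 0,.negSucc 0,.ofNat 0,.ofNat 0,.ofNat 0,.ofNat 0,.ofNat 0,.ofNat 0,.ofNat 0,.ofNat 0,.ofNat 0,.ofNat 0,.ofNat 0,.ofNat 1])]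
set_option maxHeartbeats 0 in
set_option maxRecDepth 100000 in
theorem hF : ∀ x ∈ rowsF, chkRow C.τ d n RL 47 (n * d) 116 (toV 4294967296 48 tv) x = true := by
  have h : rowsF.all (chkRow τ d n RL 47 (n * d) 116 (toV 4294967296 48 tv)) = true := by decide +kernel
  exact fun x hx => List.all_eq_true.1 h x hx
set_option maxRecDepth 100000 in
/-- A combination. -/
def cb0 : List (ℕ × ℤ) := [(8,.negSucc 0),(9,.ofNat 1),(12,.negSucc 1),(13,.ofNat 12),(16,.ofNat 6),(21,.ofNat 4),(22,.negSucc 1),(25,.negSucc 5),(32,.negSucc 5),(35,.negSucc 5),(37,.ofNat 2),(45,.negSucc 1),(46,.negSucc 1)]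
set_option maxHeartbeats 0 in
set_option maxRecDepth 100000 in
theorem hcb0 : chkComb 7 41 rowsF 0 0 (0) cb0 = true := by decide +kernel
set_option maxRecDepth 100000 in
/-- A combination. -/
def cb1 : List (ℕ × ℤ) := [(19,.negSucc 0),(21,.negSucc 1)]
set_option maxHeartbeats 0 in
set_option maxRecDepth 100000 in
theorem hcb1 : chkComb 7 41 rowsF 0 1 (0) cb1 = true := by decide +kernel
set_option maxRecDepth 100000 in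
/-- A combination. -/
def cb2 : List (ℕ × ℤ) := [(31,.negSucc 0),(34,.negSucc 1)]
set_option maxHeartbeats 0 in
set_option maxRecDepth 100000 in
theorem hcb2 : chkComb 7 41 rowsF 0 2 (0) cb2 = true := by decide +kernel
set_option maxRecDepth 100000 in
/-- A combination. -/
def cb3 : List (ℕ × ℤ) := [(37,.negSucc 0)]
set_option maxHeartbeats 0 in
set_option maxRecDepth 100000 in
theorem hcb3 : chkComb 7 41 rowsF 0 3 (0) cb3 = true := by decide +kernel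
set_option maxRecDepth 100000 in
/-- A combination. -/
def cb4 : List (ℕ × ℤ) := [(38,.negSucc 0),(40,.negSucc 1)]
set_option maxHeartbeats 0 in
set_option maxRecDepth 100000 in
theorem hcb4 : chkComb 7 41 rowsF 0 4 (0) cb4 = true := by decide +kernel
set_option maxRecDepth 100000 in
/-- A combination. -/
def cb5 : List (ℕ × ℤ) := [(13,.negSucc 0)]
set_option maxHeartbeats 0 in
set_option maxRecDepth 100000 in
theorem hcb5 : chkComb 7 41 rowsF 0 5 (0) cb5 = true := by decide +kernel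
set_option maxRecDepth 100000 in
/-- A combination. -/
def cb6 : List (ℕ × ℤ) := [(8,.negSucc 1),(9,.ofNat 1),(12,.negSucc 1),(13,.ofNat 12),(16,.ofNat 6),(21,.ofNat 4),(22,.negSucc 1),(25,.negSucc 5),(32,.negSucc 5),(35,.negSucc 5),(37,.ofNat 2),(45,.negSucc 1),(46,.negSucc 1)]
set_option maxHeartbeats 0 in
set_option maxRecDepth 100000 in
theorem hcb6 : chkComb 7 41 rowsF 0 6 (0) cb6 = true := by decide +kernel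
set_option maxRecDepth 100000 in
/-- A combination. -/
def cb7 : List (ℕ × ℤ) := [(0,.negSucc 0),(6,.negSucc 0),(8,.negSucc 3),(9,.ofNat 3),(12,.negSucc 5),(13,.ofNat 34),(15,.ofNat 1),(16,.ofNat 17),(19,.ofNat 1),(21,.ofNat 13),(22,.negSucc 5),(25,.negSucc 16),(31,.negSucc 1),(32,.negSucc 16),(34,.negSucc 4),(35,.negSucc 16),(37,.ofNat 6),(45,.negSucc 4),(46,.negSucc 4)]
set_option maxHeartbeats 0 in
set_option maxRecDepth 100000 in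
theorem hcb7 : chkComb 7 41 rowsF 0 7 (0) cb7 = true := by decide +kernel
set_option maxRecDepth 100000 in
/-- A combination. -/
def cb8 : List (ℕ × ℤ) := [(8,.negSucc 1),(9,.ofNat 1),(12,.negSucc 2),(13,.ofNat 16),(16,.ofNat 7),(19,.ofNat 1),(21,.ofNat 7),(22,.negSucc 1),(25,.negSucc 6),(32,.negSucc 6),(35,.negSucc 7),(37,.ofNat 1),(45,.negSucc 2),(46,.negSucc 2)]
set_option maxHeartbeats 0 in
set_option maxRecDepth 100000 in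
theorem hcb8 : chkComb 7 41 rowsF 0 8 (0) cb8 = true := by decide +kernel
set_option maxRecDepth 100000 in
/-- A combination. -/
def cb9 : List (ℕ × ℤ) := [(1,.negSucc 0),(8,.negSucc 3),(9,.ofNat 3),(12,.negSucc 5),(13,.ofNat 36),(16,.ofNat 18),(19,.ofNat 1),(21,.ofNat 14),(22,.negSucc 5),(25,.negSucc 17),(32,.negSucc 17),(35,.negSucc 17),(37,.ofNat 6),(38,.negSucc 2),(40,.negSucc 5),(45,.negSucc 5),(46,.negSucc 5)]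
set_option maxHeartbeats 0 in
set_option maxRecDepth 100000 in
theorem hcb9 : chkComb 7 41 rowsF 0 9 (0) cb9 = true := by decide +kernel
set_option maxRecDepth 100000 in
/-- A combination. -/
def cb10 : List (ℕ × ℤ) := [(8,.negSucc 3),(9,.ofNat 2),(12,.negSucc 3),(13,.ofNat 28),(16,.ofNat 14),(19,.ofNat 2),(21,.ofNat 14),(22,.negSucc 3),(25,.negSucc 13),(27,.negSucc 0),(32,.negSucc 13),(35,.negSucc 15),(37,.ofNat 4),(45,.negSucc 5),(46,.negSucc 5)]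
set_option maxHeartbeats 0 in
set_option maxRecDepth 100000 in
theorem hcb10 : chkComb 7 41 rowsF 0 10 (0) cb10 = true := by decide +kernel
set_option maxRecDepth 100000 in
/-- A combination. -/
def cb11 : List (ℕ × ℤ) := [(8,.negSucc 0),(13,.ofNat 2),(16,.ofNat 1),(19,.negSucc 1),(21,.negSucc 2),(25,.negSucc 0),(31,.negSucc 1),(32,.negSucc 0),(34,.negSucc 4),(35,.negSucc 0)]
set_option maxHeartbeats 0 in
set_option maxRecDepth 100000 in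
theorem hcb11 : chkComb 7 41 rowsF 0 11 (0) cb11 = true := by decide +kernel
set_option maxRecDepth 100000 in
/-- A combination. -/
def cb12 : List (ℕ × ℤ) := [(12,.negSucc 0),(19,.negSucc 0),(21,.negSucc 2),(37,.negSucc 0)]
set_option maxHeartbeats 0 in
set_option maxRecDepth 100000 in
theorem hcb12 : chkComb 7 41 rowsF 0 12 (0) cb12 = true := by decide +kernel
set_option maxRecDepth 100000 in
/-- A combination. -/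
def cb13 : List (ℕ × ℤ) := [(2,.negSucc 0),(8,.negSucc 0),(19,.negSucc 1),(21,.negSucc 3),(38,.negSucc 2),(40,.negSucc 5)]
set_option maxHeartbeats 0 in
set_option maxRecDepth 100000 in
theorem hcb13 : chkComb 7 41 rowsF 0 13 (0) cb13 = true := by decide +kernel
set_option maxRecDepth 100000 in
/-- A combination. -/
def cb14 : List (ℕ × ℤ) := [(6,.negSucc 0),(8,.negSucc 1),(9,.negSucc 0),(12,.negSucc 3),(13,.negSucc 0),(14,.ofNat 1),(16,.negSucc 0),(19,.ofNat 1),(21,.negSucc 0),(22,.ofNat 2),(29,.ofNat 1),(31,.ofNat 2),(35,.negSucc 0),(37,.ofNat 1),(43,.ofNat 1),(44,.negSucc 0),(46,.negSucc 0)]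
set_option maxHeartbeats 0 in
set_option maxRecDepth 100000 in
theorem hcb14 : chkComb 7 41 rowsF 0 14 (0) cb14 = true := by decide +kernel
set_option maxRecDepth 100000 in
/-- A combination. -/
def cb15 : List (ℕ × ℤ) := [(12,.negSucc 3),(13,.ofNat 8),(16,.ofNat 4),(25,.negSucc 3),(32,.negSucc 4),(34,.negSucc 3),(35,.negSucc 3)]
set_option maxHeartbeats 0 in
set_option maxRecDepth 100000 in
theorem hcb15 : chkComb 7 41 rowsF 0 15 (0) cb15 = true := by decide +kernel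
set_option maxRecDepth 100000 in
/-- A combination. -/
def cb16 : List (ℕ × ℤ) := [(1,.negSucc 1),(8,.negSucc 3),(9,.ofNat 4),(12,.negSucc 7),(13,.ofNat 28),(16,.ofNat 16),(18,.negSucc 1),(19,.ofNat 2),(21,.ofNat 12),(22,.negSucc 7),(24,.negSucc 0),(25,.negSucc 15),(31,.negSucc 1),(32,.negSucc 15),(34,.negSucc 5),(35,.negSucc 13),(37,.ofNat 8),(38,.negSucc 1),(40,.negSucc 3),(46,.negSucc 1)]
set_option maxHeartbeats 0 in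
set_option maxRecDepth 100000 in
theorem hcb16 : chkComb 7 41 rowsF 0 16 (0) cb16 = true := by decide +kernel
set_option maxRecDepth 100000 in
/-- A combination. -/
def cb17 : List (ℕ × ℤ) := [(3,.negSucc 0),(6,.ofNat 1),(8,.ofNat 1),(12,.negSucc 3),(13,.ofNat 6),(15,.negSucc 0),(16,.ofNat 4),(19,.negSucc 0),(21,.negSucc 1),(25,.negSucc 3),(31,.negSucc 0),(32,.negSucc 4),(34,.negSucc 4),(35,.negSucc 3),(37,.ofNat 2)]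
set_option maxHeartbeats 0 in
set_option maxRecDepth 100000 in
theorem hcb17 : chkComb 7 41 rowsF 0 17 (0) cb17 = true := by decide +kernel
set_option maxRecDepth 100000 in
/-- A combination. -/
def cb18 : List (ℕ × ℤ) := [(39,.negSucc 0),(40,.negSucc 5)]
set_option maxHeartbeats 0 in
set_option maxRecDepth 100000 in
theorem hcb18 : chkComb 7 41 rowsF 0 18 (0) cb18 = true := by decide +kernel
set_option maxRecDepth 100000 in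
/-- A combination. -/
def cb19 : List (ℕ × ℤ) := [(10,.negSucc 0),(12,.negSucc 1),(13,.negSucc 0),(16,.ofNat 1),(25,.negSucc 0),(32,.negSucc 0),(35,.negSucc 0),(37,.negSucc 1)]
set_option maxHeartbeats 0 in
set_option maxRecDepth 100000 in
theorem hcb19 : chkComb 7 41 rowsF 0 19 (0) cb19 = true := by decide +kernel
set_option maxRecDepth 100000 in
/-- A combination. -/
def cb20 : List (ℕ × ℤ) := [(1,.ofNat 1),(8,.ofNat 2),(9,.negSucc 1),(12,.ofNat 4),(13,.negSucc 16),(16,.negSucc 7),(18,.ofNat 1),(19,.negSucc 0),(21,.negSucc 5),(22,.ofNat 4),(25,.ofNat 8),(32,.ofNat 8),(35,.ofNat 7),(37,.negSucc 0),(39,.negSucc 0),(40,.negSucc 6),(46,.ofNat 1)]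
set_option maxHeartbeats 0 in
set_option maxRecDepth 100000 in
theorem hcb20 : chkComb 7 41 rowsF 0 20 (0) cb20 = true := by decide +kernel
set_option maxRecDepth 100000 in
/-- A combination. -/
def cb21 : List (ℕ × ℤ) := [(4,.negSucc 0),(6,.negSucc 1),(8,.negSucc 5),(9,.ofNat 1),(12,.negSucc 2),(13,.ofNat 22),(15,.ofNat 2),(16,.ofNat 11),(21,.ofNat 8),(22,.negSucc 2),(25,.negSucc 10),(31,.negSucc 2),(32,.negSucc 10),(34,.negSucc 10),(35,.negSucc 10),(37,.ofNat 3),(45,.negSucc 4),(46,.negSucc 4)]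
set_option maxHeartbeats 0 in
set_option maxRecDepth 100000 in
theorem hcb21 : chkComb 7 41 rowsF 0 21 (0) cb21 = true := by decide +kernel
set_option maxRecDepth 100000 in
/-- A combination. -/
def cb22 : List (ℕ × ℤ) := [(5,.negSucc 0),(6,.negSucc 1),(8,.negSucc 4),(9,.ofNat 1),(12,.negSucc 2),(13,.ofNat 20),(15,.ofNat 2),(16,.ofNat 10),(21,.ofNat 7),(22,.negSucc 2),(25,.negSucc 9),(31,.negSucc 2),(32,.negSucc 9),(34,.negSucc 11),(35,.negSucc 9),(37,.ofNat 3),(45,.negSucc 4),(46,.negSucc 4)]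
set_option maxHeartbeats 0 in
set_option maxRecDepth 100000 in
theorem hcb22 : chkComb 7 41 rowsF 0 22 (0) cb22 = true := by decide +kernel
set_option maxRecDepth 100000 in
/-- A combination. -/
def cb23 : List (ℕ × ℤ) := [(8,.negSucc 5),(9,.ofNat 3),(12,.negSucc 5),(13,.ofNat 40),(14,.negSucc 0),(16,.ofNat 20),(19,.negSucc 1),(21,.ofNat 10),(22,.negSucc 5),(25,.negSucc 19),(31,.negSucc 3),(32,.negSucc 19),(34,.negSucc 11),(35,.negSucc 19),(37,.ofNat 6),(45,.negSucc 5),(46,.negSucc 5)]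
set_option maxHeartbeats 0 in
set_option maxRecDepth 100000 in
theorem hcb23 : chkComb 7 41 rowsF 0 23 (0) cb23 = true := by decide +kernel
set_option maxRecDepth 100000 in
/-- A combination. -/
def cb24 : List (ℕ × ℤ) := [(6,.negSucc 0),(8,.negSucc 6),(9,.ofNat 3),(12,.negSucc 5),(13,.ofNat 40),(16,.ofNat 20),(21,.ofNat 14),(22,.negSucc 5),(25,.negSucc 19),(31,.negSucc 3),(32,.negSucc 19),(34,.negSucc 11),(35,.negSucc 19),(37,.ofNat 6),(45,.negSucc 6),(46,.negSucc 6)]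
set_option maxHeartbeats 0 in
set_option maxRecDepth 100000 in
theorem hcb24 : chkComb 7 41 rowsF 0 24 (0) cb24 = true := by decide +kernel
set_option maxRecDepth 100000 in
/-- A combination. -/
def cb25 : List (ℕ × ℤ) := [(8,.negSucc 2),(9,.ofNat 1),(12,.negSucc 6),(13,.ofNat 24),(16,.ofNat 11),(19,.ofNat 1),(21,.ofNat 7),(22,.negSucc 1),(25,.negSucc 11),(32,.negSucc 11),(34,.negSucc 3),(35,.negSucc 11),(37,.ofNat 2),(45,.negSucc 2),(46,.negSucc 2)]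
set_option maxHeartbeats 0 in
set_option maxRecDepth 100000 in
theorem hcb25 : chkComb 7 41 rowsF 0 25 (0) cb25 = true := by decide +kernel
set_option maxRecDepth 100000 in
/-- A combination. -/
def cb26 : List (ℕ × ℤ) := [(6,.ofNat 1),(7,.negSucc 0),(8,.negSucc 0),(12,.negSucc 5),(13,.ofNat 22),(15,.negSucc 0),(16,.ofNat 10),(19,.negSucc 0),(21,.ofNat 1),(22,.negSucc 0),(25,.negSucc 9),(32,.negSucc 10),(34,.negSucc 3),(35,.negSucc 10),(37,.ofNat 2),(45,.negSucc 2),(46,.negSucc 2)]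
set_option maxHeartbeats 0 in
set_option maxRecDepth 100000 in
theorem hcb26 : chkComb 7 41 rowsF 0 26 (0) cb26 = true := by decide +kernel
set_option maxRecDepth 100000 in
/-- A combination. -/
def cb27 : List (ℕ × ℤ) := [(7,.negSucc 0),(8,.negSucc 2),(12,.negSucc 6),(13,.ofNat 32),(16,.ofNat 14),(19,.ofNat 2),(21,.ofNat 11),(22,.negSucc 1),(25,.negSucc 13),(32,.negSucc 14),(34,.negSucc 3),(35,.negSucc 15),(37,.ofNat 2),(45,.negSucc 4),(46,.negSucc 4)]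
set_option maxHeartbeats 0 in
set_option maxRecDepth 100000 in
theorem hcb27 : chkComb 7 41 rowsF 0 27 (0) cb27 = true := by decide +kernel
set_option maxRecDepth 100000 in
/-- A combination. -/
def cb28 : List (ℕ × ℤ) := [(8,.negSucc 0),(9,.ofNat 1),(11,.negSucc 0),(12,.negSucc 3),(13,.ofNat 8),(16,.ofNat 4),(19,.negSucc 0),(22,.negSucc 1),(25,.negSucc 3),(32,.negSucc 3),(35,.negSucc 3),(37,.ofNat 2),(38,.negSucc 2),(40,.negSucc 5),(45,.negSucc 1),(46,.negSucc 1)]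
set_option maxHeartbeats 0 in
set_option maxRecDepth 100000 in
theorem hcb28 : chkComb 7 41 rowsF 0 28 (0) cb28 = true := by decide +kernel
set_option maxRecDepth 100000 in
/-- A combination. -/
def cb29 : List (ℕ × ℤ) := [(6,.negSucc 1),(8,.negSucc 2),(9,.negSucc 0),(13,.ofNat 4),(15,.ofNat 2),(16,.ofNat 1),(18,.ofNat 1),(19,.ofNat 2),(21,.ofNat 5),(22,.ofNat 1),(25,.negSucc 0),(32,.negSucc 0),(33,.negSucc 0),(34,.negSucc 1),(35,.negSucc 1),(37,.negSucc 1),(38,.negSucc 1),(40,.negSucc 3),(45,.negSucc 2),(46,.negSucc 2)]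
set_option maxHeartbeats 0 in
set_option maxRecDepth 100000 in
theorem hcb29 : chkComb 7 41 rowsF 0 29 (0) cb29 = true := by decide +kernel
set_option maxRecDepth 100000 in
/-- A combination. -/
def cb30 : List (ℕ × ℤ) := [(1,.ofNat 1),(6,.negSucc 1),(8,.negSucc 0),(9,.negSucc 0),(12,.ofNat 2),(13,.negSucc 1),(15,.ofNat 2),(16,.negSucc 1),(18,.ofNat 1),(22,.ofNat 2),(25,.ofNat 2),(32,.ofNat 2),(34,.negSucc 1),(35,.ofNat 1),(38,.negSucc 0),(39,.negSucc 0),(40,.negSucc 7),(45,.negSucc 1),(46,.negSucc 0)]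
set_option maxHeartbeats 0 in
set_option maxRecDepth 100000 in
theorem hcb30 : chkComb 7 41 rowsF 0 30 (0) cb30 = true := by decide +kernel
set_option maxRecDepth 100000 in
/-- A combination. -/
def cb31 : List (ℕ × ℤ) := [(6,.negSucc 1),(8,.negSucc 2),(12,.ofNat 1),(15,.ofNat 2),(16,.negSucc 0),(17,.negSucc 0),(18,.ofNat 1),(19,.ofNat 3),(21,.ofNat 6),(22,.ofNat 1),(25,.ofNat 1),(32,.ofNat 1),(33,.negSucc 0),(34,.negSucc 1),(38,.negSucc 0),(39,.negSucc 0),(40,.negSucc 7),(45,.negSucc 0),(46,.negSucc 0)]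
set_option maxHeartbeats 0 in
set_option maxRecDepth 100000 in
theorem hcb31 : chkComb 7 41 rowsF 0 31 (0) cb31 = true := by decide +kernel
set_option maxRecDepth 100000 in
/-- A combination. -/
def cb32 : List (ℕ × ℤ) := [(0,.ofNat 2),(6,.ofNat 1),(7,.negSucc 0),(8,.ofNat 1),(9,.negSucc 4),(12,.ofNat 7),(13,.negSucc 5),(14,.negSucc 3),(15,.ofNat 1),(16,.negSucc 1),(18,.negSucc 0),(19,.negSucc 1),(21,.negSucc 0),(22,.ofNat 2),(23,.negSucc 1),(25,.ofNat 3),(30,.ofNat 1),(31,.negSucc 0),(32,.ofNat 3),(33,.negSucc 0),(34,.negSucc 3),(35,.ofNat 3),(36,.ofNat 2),(37,.negSucc 5),(38,.negSucc 0),(40,.negSucc 1),(43,.negSucc 0),(44,.ofNat 2),(45,.negSucc 1),(46,.ofNat 2)]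
set_option maxHeartbeats 0 in
set_option maxRecDepth 100000 in
theorem hcb32 : chkComb 7 41 rowsF 0 32 (0) cb32 = true := by decide +kernel
set_option maxRecDepth 100000 in
/-- A combination. -/
def cb33 : List (ℕ × ℤ) := [(0,.ofNat 1),(1,.ofNat 1),(6,.ofNat 5),(8,.ofNat 4),(9,.ofNat 1),(12,.negSucc 8),(13,.ofNat 28),(14,.negSucc 0),(15,.negSucc 4),(16,.ofNat 14),(19,.negSucc 6),(21,.negSucc 8),(22,.negSucc 0),(25,.negSucc 13),(31,.ofNat 2),(32,.negSucc 15),(33,.ofNat 1),(34,.negSucc 2),(35,.negSucc 13),(36,.ofNat 1),(37,.ofNat 6),(38,.ofNat 1),(39,.negSucc 0),(40,.negSucc 3),(45,.negSucc 1),(46,.negSucc 0)]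
set_option maxHeartbeats 0 in
set_option maxRecDepth 100000 in
theorem hcb33 : chkComb 7 41 rowsF 0 33 (0) cb33 = true := by decide +kernel
set_option maxRecDepth 100000 in
/-- A combination. -/
def cb34 : List (ℕ × ℤ) := [(0,.ofNat 1),(6,.ofNat 2),(8,.negSucc 2),(9,.ofNat 1),(12,.ofNat 8),(13,.ofNat 8),(14,.negSucc 2),(15,.negSucc 0),(16,.ofNat 8),(19,.negSucc 5),(22,.negSucc 3),(23,.negSucc 0),(25,.negSucc 5),(30,.ofNat 1),(31,.negSucc 1),(32,.negSucc 5),(35,.negSucc 3),(36,.ofNat 1),(37,.negSucc 1),(38,.negSucc 2),(40,.negSucc 5),(41,.negSucc 0),(43,.negSucc 1),(44,.ofNat 2),(45,.negSucc 4),(46,.ofNat 2)]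
set_option maxHeartbeats 0 in
set_option maxRecDepth 100000 in
theorem hcb34 : chkComb 7 41 rowsF 0 34 (0) cb34 = true := by decide +kernel
set_option maxRecDepth 100000 in
/-- A combination. -/
def cb35 : List (ℕ × ℤ) := [(8,.negSucc 1),(9,.ofNat 2),(12,.negSucc 3),(13,.ofNat 20),(16,.ofNat 10),(19,.negSucc 0),(21,.ofNat 4),(22,.negSucc 3),(25,.negSucc 9),(28,.negSucc 0),(32,.negSucc 9),(35,.negSucc 9),(37,.ofNat 4),(38,.negSucc 2),(40,.negSucc 5),(45,.negSucc 3),(46,.negSucc 3)]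
set_option maxHeartbeats 0 in
set_option maxRecDepth 100000 in
theorem hcb35 : chkComb 7 41 rowsF 0 35 (0) cb35 = true := by decide +kernel
set_option maxRecDepth 100000 in
/-- A combination. -/
def cb36 : List (ℕ × ℤ) := [(0,.negSucc 0),(6,.negSucc 1),(8,.negSucc 4),(12,.ofNat 2),(13,.ofNat 3),(14,.ofNat 1),(15,.ofNat 1),(18,.ofNat 2),(19,.ofNat 5),(21,.ofNat 12),(22,.ofNat 2),(23,.ofNat 1),(30,.negSucc 0),(31,.negSucc 0),(34,.negSucc 3),(35,.negSucc 1),(36,.negSucc 0),(37,.negSucc 1),(38,.negSucc 0),(40,.negSucc 1),(45,.negSucc 5),(46,.negSucc 5)]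
set_option maxHeartbeats 0 in
set_option maxRecDepth 100000 in
theorem hcb36 : chkComb 7 41 rowsF 0 36 (0) cb36 = true := by decide +kernel
set_option maxRecDepth 100000 in
/-- A combination. -/
def cb37 : List (ℕ × ℤ) := [(0,.ofNat 1),(6,.ofNat 2),(9,.negSucc 0),(13,.ofNat 7),(14,.negSucc 1),(15,.negSucc 0),(16,.ofNat 4),(19,.negSucc 2),(21,.negSucc 1),(23,.negSucc 0),(25,.negSucc 3),(31,.negSucc 0),(32,.negSucc 3),(34,.negSucc 3),(35,.negSucc 3),(36,.ofNat 1),(38,.negSucc 0),(40,.negSucc 1),(44,.ofNat 1),(45,.negSucc 1)]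
set_option maxHeartbeats 0 in
set_option maxRecDepth 100000 in
theorem hcb37 : chkComb 7 41 rowsF 0 37 (0) cb37 = true := by decide +kernel
set_option maxRecDepth 100000 in
/-- A combination. -/
def cb38 : List (ℕ × ℤ) := [(0,.ofNat 4),(1,.negSucc 0),(6,.ofNat 8),(7,.negSucc 0),(8,.ofNat 3),(9,.negSucc 5),(12,.negSucc 5),(13,.ofNat 3),(14,.negSucc 6),(15,.negSucc 2),(18,.negSucc 1),(19,.negSucc 1),(21,.negSucc 4),(22,.ofNat 6),(23,.negSucc 4),(25,.negSucc 0),(26,.ofNat 1),(30,.ofNat 1),(31,.ofNat 1),(32,.negSucc 0),(34,.negSucc 1),(35,.negSucc 2),(36,.ofNat 4),(37,.negSucc 4),(38,.negSucc 2),(39,.ofNat 1),(43,.ofNat 1),(44,.ofNat 3),(45,.negSucc 1),(46,.ofNat 3)]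
set_option maxHeartbeats 0 in
set_option maxRecDepth 100000 in
theorem hcb38 : chkComb 7 41 rowsF 0 38 (0) cb38 = true := by decide +kernel
set_option maxRecDepth 100000 in
/-- A combination. -/
def cb39 : List (ℕ × ℤ) := [(1,.negSucc 0),(6,.ofNat 3),(7,.negSucc 0),(8,.ofNat 1),(9,.negSucc 2),(12,.negSucc 6),(13,.ofNat 13),(14,.negSucc 0),(15,.negSucc 1),(16,.ofNat 5),(19,.ofNat 2),(20,.negSucc 0),(22,.ofNat 3),(23,.negSucc 0),(25,.negSucc 4),(31,.ofNat 2),(32,.negSucc 6),(34,.negSucc 1),(35,.negSucc 6),(38,.negSucc 1),(40,.negSucc 3),(44,.ofNat 1),(45,.negSucc 1),(46,.negSucc 0)]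
set_option maxHeartbeats 0 in
set_option maxRecDepth 100000 in
theorem hcb39 : chkComb 7 41 rowsF 0 39 (0) cb39 = true := by decide +kernel
set_option maxRecDepth 100000 in
/-- A combination. -/
def cb40 : List (ℕ × ℤ) := [(6,.negSucc 1),(8,.negSucc 3),(9,.negSucc 0),(12,.ofNat 3),(13,.negSucc 6),(15,.ofNat 2),(16,.negSucc 3),(18,.ofNat 1),(19,.ofNat 4),(21,.ofNat 7),(22,.ofNat 3),(25,.ofNat 4),(32,.ofNat 4),(33,.negSucc 0),(34,.negSucc 1),(35,.ofNat 3),(37,.negSucc 3),(38,.negSucc 1),(40,.negSucc 3),(42,.negSucc 0),(45,.negSucc 1),(46,.negSucc 0)]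
set_option maxHeartbeats 0 in
set_option maxRecDepth 100000 in
theorem hcb40 : chkComb 7 41 rowsF 0 40 (0) cb40 = true := by decide +kernel

theorem hcert : ∀ q, q < 41 → ∃ (a : ℤ) (L : List (ℕ × ℤ)), chkComb 7 41 rowsF 0 q a L = true ∧ (q = 0 → a = 1 - ((1 : ℕ) : ℤ)) := by
  intro q hq
  interval_cases q
  · exact ⟨0, cb0, hcb0, by norm_num⟩
  · exact ⟨0, cb1, hcb1, by norm_num⟩
  · exact ⟨0, cb2, hcb2, by norm_num⟩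
  · exact ⟨0, cb3, hcb3, by norm_num⟩
  · exact ⟨0, cb4, hcb4, by norm_num⟩
  · exact ⟨0, cb5, hcb5, by norm_num⟩
  · exact ⟨0, cb6, hcb6, by norm_num⟩
  · exact ⟨0, cb7, hcb7, by norm_num⟩
  · exact ⟨0, cb8, hcb8, by norm_num⟩
  · exact ⟨0, cb9, hcb9, by norm_num⟩
  · exact ⟨0, cb10, hcb10, by norm_num⟩
  · exact ⟨0, cb11, hcb11, by norm_num⟩
  · exact ⟨0, cb12, hcb12, by norm_num⟩
  · exact ⟨0, cb13, hcb13, by norm_num⟩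
  · exact ⟨0, cb14, hcb14, by norm_num⟩
  · exact ⟨0, cb15, hcb15, by norm_num⟩
  · exact ⟨0, cb16, hcb16, by norm_num⟩
  · exact ⟨0, cb17, hcb17, by norm_num⟩
  · exact ⟨0, cb18, hcb18, by norm_num⟩
  · exact ⟨0, cb19, hcb19, by norm_num⟩
  · exact ⟨0, cb20, hcb20, by norm_num⟩
  · exact ⟨0, cb21, hcb21, by norm_num⟩
  · exact ⟨0, cb22, hcb22, by norm_num⟩
  · exact ⟨0, cb23, hcb23, by norm_num⟩
  · exact ⟨0, cb24, hcb24, by norm_num⟩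
  · exact ⟨0, cb25, hcb25, by norm_num⟩
  · exact ⟨0, cb26, hcb26, by norm_num⟩
  · exact ⟨0, cb27, hcb27, by norm_num⟩
  · exact ⟨0, cb28, hcb28, by norm_num⟩
  · exact ⟨0, cb29, hcb29, by norm_num⟩
  · exact ⟨0, cb30, hcb30, by norm_num⟩
  · exact ⟨0, cb31, hcb31, by norm_num⟩
  · exact ⟨0, cb32, hcb32, by norm_num⟩
  · exact ⟨0, cb33, hcb33, by norm_num⟩
  · exact ⟨0, cb34, hcb34, by norm_num⟩
  · exact ⟨0, cb35, hcb35, by norm_num⟩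
  · exact ⟨0, cb36, hcb36, by norm_num⟩
  · exact ⟨0, cb37, hcb37, by norm_num⟩
  · exact ⟨0, cb38, hcb38, by norm_num⟩
  · exact ⟨0, cb39, hcb39, by norm_num⟩
  · exact ⟨0, cb40, hcb40, by norm_num⟩


end Cfsg.Agent.Lib.KnownSimple.MultM.M24V
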